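import Groth.Prelude.Def_CInt
import Groth.Agent.LC.DepthLoc
import Groth.Agent.H1Quot.Basic
import Groth.Agent.ZClosLib.ClosedDepth
import Groth.Agent.AssLib.Basic
import Mathlib

/-!
# Depth along a closed subset
-/

set_option autoImplicit false
set_option linter.style.haveILetI false
set_option backward.isDefEq.respectTransparency false
set_option backward.isDefEq.respectTransparency.types false

universe u

open AlgebraicGeometry CategoryTheory IsLocalRing RingTheory.Sequence
open scoped Pointwise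

namespace Groth.Agent.DepthAlongLib

theorem depth_of_subsingleton (R M : Type u) [CommRing R] [IsLocalRing R] [AddCommGroup M] [Module R M]
    [Subsingleton M] : LocCoh.depth R M = ⊤ := by
  rw [LocCoh.depth, LocCoh.idealDepth, if_pos]
  exact Subsingleton.elim _ _

section Alg

variable {A : Type u} [CommRing A] [IsNoetherianRing A] (I : Ideal A) (M : Type u) [AddCommGroup M]
  [Module A M] [Module.Finite A M] (P : Ideal A) [P.IsPrime]

omit [IsNoetherianRing A] [Module.Finite A M] in
theorem depth_localized_congr (p q : Ideal A) [p.IsPrime] [q.IsPrime] (h : p = q) :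
    LocCoh.depth (Localization.AtPrime p) (LocalizedModule p.primeCompl M) =
      LocCoh.depth (Localization.AtPrime q) (LocalizedModule q.primeCompl M) := by
  subst h; rfl

/-- The `I`-depth of a localization is bounded below by the depths at the primes below it containing `I`. -/
theorem le_idealDepth_atPrime (n : ℕ∞)
    (h : ∀ (p : Ideal A) [p.IsPrime], I ≤ p → p ≤ P →
      n ≤ LocCoh.depth (Localization.AtPrime p) (LocalizedModule p.primeCompl M)) :
    n ≤ LocCoh.idealDepth (I.map (algebraMap A (Localization.AtPrime P)))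
      (LocalizedModule P.primeCompl M) := by
  rw [LC.idealDepth_eq_iInf_depth]
  refine le_iInf₂ fun Q hQ => ?_
  haveI : (Q.asIdeal.comap (algebraMap A (Localization.AtPrime P))).IsPrime := inferInstance
  have h2 : Q.asIdeal.comap (algebraMap A (Localization.AtPrime P)) ≤ P := fun a ha =>
    (Alg6.mem_maximalIdeal_iff P).1 (le_maximalIdeal Q.2.ne_top ha)
  exact (h _ (Ideal.map_le_iff_le_comap.1 hQ) h2).trans
    (Alg6.depth_locLoc P.primeCompl M Q.asIdeal).ge

omit [IsNoetherianRing A] in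
/-- A long weakly regular sequence with entries in `I` itself. -/
theorem exists_list_of_le_idealDepth {L N : Type u} [CommRing L] [Algebra A L] [IsLocalization.AtPrime L P]
    [AddCommGroup N] [Module L N] (n : ℕ)
    (hne : I.map (algebraMap A L) • (⊤ : Submodule L N) ≠ ⊤)
    (h : (n : ℕ∞) ≤ LocCoh.idealDepth (I.map (algebraMap A L)) N) :
    ∃ as : List A, (∀ a ∈ as, a ∈ I) ∧ as.length = n ∧ IsWeaklyRegular N (as.map (algebraMap A L)) := by
  obtain ⟨rs, hrs, hmem, hlen⟩ := Alg6.exists_length_ge_of_le_idealDepth hne h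
  have hrs' : IsWeaklyRegular N (rs.take n) := by
    rw [← List.take_append_drop n rs, isWeaklyRegular_append_iff] at hrs
    exact hrs.1
  have hscale : ∀ (as bs : List L), List.Forall₂ (fun a b => ∃ w : L, IsUnit w ∧ b = w * a) as bs →
      ∀ (N' : Type u) [AddCommGroup N'] [Module L N'], IsWeaklyRegular N' as → IsWeaklyRegular N' bs := by
    intro as bs h
    induction h with
    | nil => exact fun N _ _ h => h
    | @cons a b as bs hab _ ih =>
      intro N' _ _ hN
      rw [isWeaklyRegular_cons_iff] at hN ⊢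
      obtain ⟨w, hw, rfl⟩ := hab
      refine ⟨(hw.isSMulRegular N').mul hN.1, ih _ ?_⟩
      have heq : (a • ⊤ : Submodule L N') = ((w * a) • ⊤ : Submodule L N') := by
        rw [mul_comm, mul_smul]
        congr 1
        ext n
        simp only [Submodule.mem_top, Submodule.mem_smul_pointwise_iff_exists, true_and, true_iff]
        exact ⟨hw.unit⁻¹.1 • n, by rw [smul_smul, IsUnit.mul_val_inv, one_smul]⟩
      exact ((Submodule.quotEquivOfEq _ _ heq).isWeaklyRegular_congr as).1 hN.2
  have hlist : ∀ l : List L, (∀ r ∈ l, r ∈ I.map (algebraMap A L)) →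
      ∃ as : List A, (∀ a ∈ as, a ∈ I) ∧
        List.Forall₂ (fun a b => ∃ w : L, IsUnit w ∧ b = w * a) l (as.map (algebraMap A L)) := by
    intro l
    induction l with
    | nil => exact fun _ => ⟨[], by simp, .nil⟩
    | cons r l ih =>
      intro hl
      obtain ⟨as, has, hF⟩ := ih fun x hx => hl x (List.mem_cons_of_mem _ hx)
      obtain ⟨⟨a, s⟩, has'⟩ := (IsLocalization.mem_map_algebraMap_iff P.primeCompl _).1 (hl r (List.mem_cons_self ..))
      refine ⟨a.1 :: as, fun x hx => ?_, ?_⟩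
      · rcases List.mem_cons.1 hx with rfl | hx
        · exact a.2
        · exact has x hx
      · rw [List.map_cons]
        exact List.Forall₂.cons ⟨_, IsLocalization.map_units _ s, by rw [mul_comm]; exact has'.symm⟩ hF
  obtain ⟨as, has, hF⟩ := hlist (rs.take n) fun r hr => hmem r (List.mem_of_mem_take hr)
  refine ⟨as, has, ?_, hscale _ _ hF _ hrs'⟩
  have h1 := hF.length_eq
  rw [List.length_map, List.length_take] at h1
  omega

/-- Lower bounds for the depth along `V(I)` spread to a neighbourhood. -/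
theorem exists_open_depth_ge (hP : I ≤ P) (n : ℕ)
    (h : ∀ (p : Ideal A) [p.IsPrime], I ≤ p → p ≤ P →
      (n : ℕ∞) ≤ LocCoh.depth (Localization.AtPrime p) (LocalizedModule p.primeCompl M)) :
    ∃ g : A, g ∉ P ∧ ∀ (q : Ideal A) [q.IsPrime], I ≤ q → g ∉ q →
      (n : ℕ∞) ≤ LocCoh.depth (Localization.AtPrime q) (LocalizedModule q.primeCompl M) := by
  rcases subsingleton_or_nontrivial (LocalizedModule P.primeCompl M) with hs | hs
  · obtain ⟨g, hg, hann⟩ : ∃ g : A, g ∉ P ∧ g ∈ Module.annihilator A M := by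
      have hP' : (⟨P, ‹_›⟩ : PrimeSpectrum A) ∉ Module.support A M :=
        Module.notMem_support_iff.2 hs
      rw [Module.support_eq_zeroLocus, PrimeSpectrum.mem_zeroLocus, Set.not_subset] at hP'
      obtain ⟨g, hg, hgP⟩ := hP'
      exact ⟨g, hgP, hg⟩
    refine ⟨g, hg, fun q _ _ hgq => ?_⟩
    have : Subsingleton (LocalizedModule q.primeCompl M) :=
      LocalizedModule.subsingleton_iff.2 fun m => ⟨g, hgq, (Module.mem_annihilator.1 hann) m⟩
    rw [depth_of_subsingleton]
    exact le_top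
  · have hle : I.map (algebraMap A (Localization.AtPrime P)) ≤ maximalIdeal _ :=
      (Ideal.map_mono hP).trans Localization.AtPrime.map_eq_maximalIdeal.le
    have hne : I.map (algebraMap A (Localization.AtPrime P)) •
        (⊤ : Submodule (Localization.AtPrime P) (LocalizedModule P.primeCompl M)) ≠ ⊤ := fun hh =>
      Alg6.maximal_smul_top_ne_top (R := Localization.AtPrime P) (M := LocalizedModule P.primeCompl M)
        (top_le_iff.1 (hh.ge.trans (Submodule.smul_mono_left hle)))
    obtain ⟨as, has, hlen, hreg⟩ := exists_list_of_le_idealDepth I P (L := Localization.AtPrime P) n hne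
      (le_idealDepth_atPrime I M P n h)
    obtain ⟨g, hg, hq⟩ := H1Quot.exists_spread P as M hreg
    refine ⟨g, hg, fun q _ hIq hgq => ?_⟩
    have hbound := Alg6.length_le_idealDepth (I := maximalIdeal (Localization.AtPrime q)) (hq q hgq)
      fun r hr => by
        obtain ⟨a, ha, rfl⟩ := List.mem_map.1 hr
        exact (Alg6.mem_maximalIdeal_iff q).2 (hIq (has a ha))
    rw [List.length_map, hlen] at hbound
    exact hbound

end Alg

section Sch

variable {X : Scheme.{u}} [IsLocallyNoetherian X]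

omit [IsLocallyNoetherian X] in
theorem exists_ideal_of_closed {U : X.Opens} (hU : IsAffineOpen U) (Y : TopologicalSpace.Closeds ↥X) :
    ∃ I : Ideal Γ(X, U), ∀ z (hz : z ∈ U), z ∈ Y ↔ I ≤ (hU.primeIdealOf ⟨z, hz⟩).asIdeal := by
  let T : Set (PrimeSpectrum Γ(X, U)) := hU.fromSpec ⁻¹' (Y : Set X)
  have hT : IsClosed T := Y.isClosed.preimage hU.fromSpec.continuous
  refine ⟨PrimeSpectrum.vanishingIdeal T, fun z hz => ?_⟩
  have hzT : z ∈ Y ↔ hU.primeIdealOf ⟨z, hz⟩ ∈ PrimeSpectrum.zeroLocus (PrimeSpectrum.vanishingIdeal T : Set Γ(X, U)) := by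
    rw [PrimeSpectrum.zeroLocus_vanishingIdeal_eq_closure, hT.closure_eq]
    show _ ↔ hU.fromSpec (hU.primeIdealOf ⟨z, hz⟩) ∈ (Y : Set X)
    rw [hU.fromSpec_primeIdealOf]
    rfl
  exact hzT

omit [IsLocallyNoetherian X] in
theorem exists_point_of_prime {U : X.Opens} (hU : IsAffineOpen U) (p : Ideal Γ(X, U)) [hp : p.IsPrime] :
    ∃ (z : X) (hz : z ∈ U), (hU.primeIdealOf ⟨z, hz⟩).asIdeal = p := by
  have hzU : hU.fromSpec ⟨p, hp⟩ ∈ U := by rw [← SetLike.mem_coe, ← hU.range_fromSpec]; exact ⟨_, rfl⟩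
  refine ⟨_, hzU, ?_⟩
  exact congrArg PrimeSpectrum.asIdeal
    (hU.fromSpec.isOpenEmbedding.injective (hU.fromSpec_primeIdealOf ⟨_, hzU⟩))

variable {F : X.Modules}

/-- A lower bound for the depths at the generizations in `V(I)` of a point bounds the `I`-depth of the stalk. -/
theorem le_idealDepth_stalk (hF : Coh.IsCoh F) {U : X.Opens} (hU : IsAffineOpen U) (I : Ideal Γ(X, U))
    {y : X} (hy : y ∈ U) (n : ℕ∞)
    (h : ∀ z (hz : z ∈ U), I ≤ (hU.primeIdealOf ⟨z, hz⟩).asIdeal → z ⤳ y →
      n ≤ LocCoh.depth (X.presheaf.stalk z) (F.presheaf.stalk z)) :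
    n ≤ LocCoh.idealDepth (I.map (X.presheaf.germ U y hy).hom) (F.presheaf.stalk y) := by
  haveI : IsNoetherianRing Γ(X, U) := IsLocallyNoetherian.component_noetherian ⟨U, hU⟩
  haveI : Module.Finite Γ(X, U) Γ(F, U) := (QCoh.isCoh_iff.1 hF).2 ⟨U, hU⟩
  set P := (hU.primeIdealOf ⟨y, hy⟩).asIdeal with hPdef
  have halg := le_idealDepth_atPrime I Γ(F, U) P n fun p _ hIp hpP => by
    obtain ⟨z, hz, rfl⟩ := exists_point_of_prime hU p
    exact (h z hz hIp ((AssLib.primeIdealOf_le_iff hU hy hz).1 hpP)).trans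
      (ZClosLib.depth_stalk_eq hF.1 hU hz).ge
  letI := QCoh.stalkAlg (X := X) hy
  letI := QCoh.stalkModule F hy
  haveI := QCoh.isScalarTower_stalk F hy
  haveI := QCoh.isLocalization_stalk' hU hy
  haveI := QCoh.isLocalizedModule_germLin hF.1 hU hy
  let σ : Localization.AtPrime P ≃ₐ[Γ(X, U)] X.presheaf.stalk y := IsLocalization.algEquiv P.primeCompl _ _
  refine halg.trans (le_of_eq ?_)
  rw [Alg6.idealDepth_eq_of_semilinear σ.toRingEquiv.toRingHom σ.surjective
    (IsLocalizedModule.iso P.primeCompl (QCoh.germLin F hy)).toAddEquiv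
    (Alg6.iso_semilinear P (X.presheaf.stalk y) (QCoh.germLin F hy)), Ideal.map_map]
  exact congrArg (fun J => LocCoh.idealDepth J _) (congrArg (fun r => Ideal.map r I) (RingHom.ext σ.commutes))

/-- The lower bound for the depth along a closed subset holds nearby. -/
theorem exists_nhd_depth_ge (hF : Coh.IsCoh F) (Y : TopologicalSpace.Closeds ↥X) {y : X} (hy : y ∈ Y) (n : ℕ)
    (h : (n : ℕ∞) ≤ CInt.depthAlong F (Y : Set ↥X) y) :
    ∃ V : X.Opens, y ∈ V ∧ ∀ z ∈ V, z ∈ Y → (n : ℕ∞) ≤ LocCoh.depth (X.presheaf.stalk z) (F.presheaf.stalk z) := by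
  obtain ⟨U, hU, hyU, -⟩ := exists_isAffineOpen_mem_and_subset (x := y) (U := (⊤ : X.Opens)) trivial
  haveI : IsNoetherianRing Γ(X, U) := IsLocallyNoetherian.component_noetherian ⟨U, hU⟩
  haveI : Module.Finite Γ(X, U) Γ(F, U) := (QCoh.isCoh_iff.1 hF).2 ⟨U, hU⟩
  obtain ⟨I, hI⟩ := exists_ideal_of_closed hU Y
  obtain ⟨g, hg, hq⟩ := exists_open_depth_ge I Γ(F, U) (hU.primeIdealOf ⟨y, hyU⟩).asIdeal ((hI y hyU).1 hy) n
    fun p _ hIp hpP => by
      obtain ⟨z, hz, rfl⟩ := exists_point_of_prime hU p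
      refine le_trans ?_ (ZClosLib.depth_stalk_eq hF.1 hU hz).ge
      exact h.trans (iInf_le (fun w : {w : X // w ∈ (Y : Set ↥X) ∧ w ⤳ y} =>
        LocCoh.depth (X.presheaf.stalk w.1) (F.presheaf.stalk w.1))
        ⟨z, (hI z hz).2 hIp, (AssLib.primeIdealOf_le_iff hU hyU hz).1 hpP⟩)
  refine ⟨X.basicOpen g, (QCoh.mem_basicOpen_iff_notMem hU hyU g).2 hg, fun z hz hzY => ?_⟩
  have hzU : z ∈ U := X.basicOpen_le g hz
  exact (hq _ ((hI z hzU).1 hzY) ((QCoh.mem_basicOpen_iff_notMem hU hzU g).1 hz)).trans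
    (ZClosLib.depth_stalk_eq hF.1 hU hzU).le

end Sch

end Groth.Agent.DepthAlongLib
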